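import Cfsg.Agent.Lib.Helper3.ModRep.Defs
import Mathlib

/-!
# Project MODREP (helper3), module [BR6] (helper75): the trace function of a representation
belonging to `B` lies in the span of the reduced characters of `B`; `_of` form

Hypotheses = the conclusions of [BR1K], [BR2K], [BR3] (for `ρ`), [BR5K] (for `B`).
-/

set_option autoImplicit false

namespace Cfsg.Agent.Lib.Helper75.ModRep

open Cfsg Cfsg.Agent.Lib.Helper16 Cfsg.Agent.Lib.Helper3.ModRep

/-- every element of a finite group is a commuting product of a `p`-element and a `p`-regular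
element -/
theorem exists_pElement_mul_pRegular {G : Type*} [Group G] [Finite G] (p : ℕ) (hp : p.Prime)
    (g : G) :
    ∃ x y : G, x * y = g ∧ Commute x y ∧ (∃ j : ℕ, orderOf x = p ^ j) ∧ ¬ p ∣ orderOf y := by
  have hn0 : orderOf g ≠ 0 := (orderOf_pos g).ne'
  set n := orderOf g with hn
  set a := n.factorization p with ha
  set q := p ^ a with hq
  set m₁ := n / q with hm₁
  have hqm : q * m₁ = n := Nat.ordProj_mul_ordCompl_eq_self n p
  have hcop : Nat.Coprime q m₁ := by
    apply Nat.Coprime.pow_left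
    exact Nat.coprime_ordCompl hp hn0
  have hpm : ¬ p ∣ m₁ := Nat.not_dvd_ordCompl hp hn0
  have hbez := Nat.gcd_eq_gcd_ab q m₁
  rw [hcop.gcd_eq_one] at hbez
  have hyn : g ^ (n : ℤ) = 1 := by rw [zpow_natCast, hn, pow_orderOf_eq_one]
  have hprod : g ^ ((m₁ : ℤ) * q.gcdB m₁) * g ^ ((q : ℤ) * q.gcdA m₁) = g := by
    rw [← zpow_add, add_comm, ← hbez]
    simp
  have hu_pow : (g ^ ((m₁ : ℤ) * q.gcdB m₁)) ^ q = 1 := by
    rw [← zpow_natCast, ← zpow_mul]
    have : (m₁ : ℤ) * q.gcdB m₁ * (q : ℤ) = (n : ℤ) * q.gcdB m₁ := by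
      rw [← hqm]; push_cast; ring
    rw [this, zpow_mul, hyn, one_zpow]
  have hs_pow : (g ^ ((q : ℤ) * q.gcdA m₁)) ^ m₁ = 1 := by
    rw [← zpow_natCast, ← zpow_mul]
    have : (q : ℤ) * q.gcdA m₁ * (m₁ : ℤ) = (n : ℤ) * q.gcdA m₁ := by
      rw [← hqm]; push_cast; ring
    rw [this, zpow_mul, hyn, one_zpow]
  refine ⟨g ^ ((m₁ : ℤ) * q.gcdB m₁), g ^ ((q : ℤ) * q.gcdA m₁), hprod, ?_, ?_, ?_⟩
  · exact (Commute.refl g).zpow_zpow _ _
  · have h1 : orderOf (g ^ ((m₁ : ℤ) * q.gcdB m₁)) ∣ p ^ a := orderOf_dvd_of_pow_eq_one hu_pow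
    obtain ⟨j, -, hj⟩ := (Nat.dvd_prime_pow hp).1 h1
    exact ⟨j, hj⟩
  · intro hdiv
    have h1 : orderOf (g ^ ((q : ℤ) * q.gcdA m₁)) ∣ m₁ := orderOf_dvd_of_pow_eq_one hs_pow
    exact hpm (hdiv.trans h1)

variable {G : Type*} [Group G] [Finite G] (p : ℕ) (M : Ideal AlgInt) [hMp : M.IsPrime]

/-- MODREP-[BR6], `_of` form. -/
theorem trFun_mem_span_chiBar_of (hp : p.Prime) [Fintype G] [Fintype (IrrCharacter G)]
    (B : Set (IrrCharacter G))
    {V : Type*} [AddCommGroup V] [Module (K M) V]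
    (ρ : Representation (K M) G V) (hρ : BelongsTo M B ρ)
    (hBR1K : ∀ (χ : IrrCharacter G) (x y : G), Commute x y → (∃ j : ℕ, orderOf x = p ^ j) →
      ¬ p ∣ orderOf y → chiBar M (χ : G → ℂ) (x * y) = chiBar M (χ : G → ℂ) y)
    (hBR2K : ∀ v : G, ¬ p ∣ orderOf v → ∃ c : IrrCharacter G → K M, ∀ g : G, ¬ p ∣ orderOf g →
      ∑ χ : IrrCharacter G, c χ * chiBar M (χ : G → ℂ) g =
        @ite (K M) (IsConj g v) (Classical.propDecidable _) 1 0)
    (hBR3 : ∀ x y : G, Commute x y → (∃ j : ℕ, orderOf x = p ^ j) →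
      trFun ρ (x * y) = trFun ρ y)
    (hBR5K : ∀ (χ : IrrCharacter G) (g : G),
      ∑ h : G, cBar M B h * chiBar M (χ : G → ℂ) (h * g) =
        (by classical exact if χ ∈ B then chiBar M (χ : G → ℂ) g else 0)) :
    trFun ρ ∈ Submodule.span (K M) ((fun χ : IrrCharacter G => chiBar M (χ : G → ℂ)) '' B) := by
  classical
  set τ : G → K M := trFun ρ with hτ
  have hτ_apply : ∀ g, τ g = LinearMap.trace (K M) V (ρ g) := fun g => rfl
  -- `τ` is a class function
  have hcl : ∀ g h : G, τ (h * g * h⁻¹) = τ g := by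
    intro g h
    rw [hτ_apply, hτ_apply, map_mul ρ, map_mul ρ, LinearMap.trace_mul_comm, ← mul_assoc,
      ← map_mul ρ, inv_mul_cancel, map_one ρ, one_mul]
  have hconj : ∀ g v : G, IsConj g v → τ g = τ v := by
    intro g v hgv
    obtain ⟨c, hc⟩ := isConj_iff.1 hgv
    rw [← hc, hcl]
  -- the coefficients
  choose! cc hcc using hBR2K
  set c : IrrCharacter G → K M := fun χ =>
    ∑ C : ConjClasses G, if ¬ p ∣ orderOf C.out then τ C.out * cc C.out χ else 0 with hc
  -- on `p`-regular elements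
  have hreg : ∀ g : G, ¬ p ∣ orderOf g → τ g = ∑ χ : IrrCharacter G, c χ * chiBar M (χ : G → ℂ) g := by
    intro g hg
    have h1 : ∑ χ : IrrCharacter G, c χ * chiBar M (χ : G → ℂ) g =
        ∑ C : ConjClasses G, if ¬ p ∣ orderOf C.out then
          τ C.out * (@ite (K M) (IsConj g C.out) (Classical.propDecidable _) 1 0) else 0 := by
      simp only [hc, Finset.sum_mul]
      rw [Finset.sum_comm]
      refine Finset.sum_congr rfl (fun C _ => ?_)
      by_cases hC : p ∣ orderOf C.out
      · simp [hC]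
      · simp only [hC, not_false_eq_true, if_true]
        rw [← hcc C.out hC g hg, Finset.mul_sum]
        refine Finset.sum_congr rfl (fun χ _ => ?_)
        ring
    rw [h1]
    have hout : IsConj g (ConjClasses.mk g).out := by
      rw [← ConjClasses.mk_eq_mk_iff_isConj]
      exact (Quotient.out_eq' (ConjClasses.mk g)).symm
    rw [Finset.sum_eq_single (ConjClasses.mk g)]
    · have hord : orderOf (ConjClasses.mk g).out = orderOf g := by
        obtain ⟨d, hd⟩ := isConj_iff.1 hout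
        rw [← hd]
        have h3 := orderOf_injective (MulAut.conj d).toMonoidHom (MulAut.conj d).injective g
        simpa using h3
      rw [hord, if_pos hg, if_pos hout, mul_one]
      exact hconj g _ hout
    · intro C _ hC
      have hnc : ¬ IsConj g C.out := by
        intro hgc
        apply hC
        rw [← Quotient.out_eq' C]
        exact (ConjClasses.mk_eq_mk_iff_isConj.2 hgc).symm
      rw [if_neg hnc, mul_zero, ite_self]
    · intro h
      exact absurd (Finset.mem_univ _) h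
  -- on all elements
  have hall : ∀ g : G, τ g = ∑ χ : IrrCharacter G, c χ * chiBar M (χ : G → ℂ) g := by
    intro g
    obtain ⟨x, y, hxy, hcomm, hx, hy⟩ := exists_pElement_mul_pRegular p hp g
    rw [← hxy, hBR3 x y hcomm hx, hreg y hy]
    refine Finset.sum_congr rfl (fun χ _ => ?_)
    rw [hBR1K χ x y hcomm hx hy]
  -- the block idempotent acts trivially
  have hE : ∀ g : G, τ g = ∑ h : G, cBar M B h * τ (h * g) := by
    intro g
    have h1 : ρ g = (∑ h : G, cBar M B h • ρ h) * ρ g := by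
      rw [← eAct_eq_sum, hρ]
      rfl
    rw [hτ_apply, h1, Finset.sum_mul, map_sum]
    refine Finset.sum_congr rfl (fun h _ => ?_)
    rw [smul_mul_assoc, map_smul, ← map_mul, smul_eq_mul, hτ_apply]
  have hfin : ∀ g : G, τ g = ∑ χ : IrrCharacter G,
      ((if χ ∈ B then c χ else 0) • chiBar M (χ : G → ℂ)) g := by
    intro g
    rw [hE g]
    have h2 : ∑ h : G, cBar M B h * τ (h * g) =
        ∑ χ : IrrCharacter G, c χ * ∑ h : G, cBar M B h * chiBar M (χ : G → ℂ) (h * g) := by
      simp only [Finset.mul_sum]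
      rw [Finset.sum_comm]
      refine Finset.sum_congr rfl (fun h _ => ?_)
      rw [hall (h * g), Finset.mul_sum]
      refine Finset.sum_congr rfl (fun χ _ => ?_)
      ring
    rw [h2]
    refine Finset.sum_congr rfl (fun χ _ => ?_)
    rw [hBR5K χ g]
    by_cases hχ : χ ∈ B
    · simp [hχ]
    · simp [hχ]
  have hτeq : τ = ∑ χ : IrrCharacter G, (if χ ∈ B then c χ else 0) • chiBar M (χ : G → ℂ) := by
    funext g
    rw [hfin g, Finset.sum_apply]
  rw [hτeq]
  refine Submodule.sum_mem _ (fun χ _ => ?_)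
  by_cases hχ : χ ∈ B
  · rw [if_pos hχ]
    exact Submodule.smul_mem _ _ (Submodule.subset_span ⟨χ, hχ, rfl⟩)
  · rw [if_neg hχ, zero_smul]
    exact Submodule.zero_mem _

end Cfsg.Agent.Lib.Helper75.ModRep
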