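import Cfsg.Agent.Lib.Helper3.ModRep.Defs
import Cfsg.Prelude.Def_BlockRank
import Mathlib

/-!
# Project MODREP (helper3), module [BR7] (helper75): the assembly `card_le_blockRank`, `_of` form

Hypotheses = the conclusions of [BR4] (linear independence of the trace functions), [BR6]
(membership in the span of the reduced characters of `B`) and [BR7M] (dimension bound).
-/

set_option autoImplicit false

namespace Cfsg.Agent.Lib.Helper75.ModRep

open Cfsg Cfsg.Agent.Lib.Helper16 Cfsg.Agent.Lib.Helper3.ModRep

variable {G : Type*} [Group G] [Finite G] (p : ℕ) (M : Ideal AlgInt) [hMp : M.IsPrime]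

/-- MODREP-[BR7], `_of` form. -/
theorem card_le_blockRank_of (B : Set (IrrCharacter G))
    {ι : Type*} [Finite ι] {V : ι → Type*}
    [∀ i, AddCommGroup (V i)] [∀ i, Module (K M) (V i)]
    (S : ∀ i, Representation (K M) G (V i))
    (hBR4 : LinearIndependent (K M) (fun i => trFun (S i)))
    (hBR6 : ∀ i, trFun (S i) ∈
      Submodule.span (K M) ((fun χ : IrrCharacter G => chiBar M (χ : G → ℂ)) '' B))
    (hBR7M : Module.finrank (K M)
      (Submodule.span (K M) ((fun χ : IrrCharacter G => chiBar M (χ : G → ℂ)) '' B)) ≤
      blockRank p B) :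
    Nat.card ι ≤ blockRank p B := by
  classical
  have : Fintype ι := Fintype.ofFinite ι
  set W := Submodule.span (K M) ((fun χ : IrrCharacter G => chiBar M (χ : G → ℂ)) '' B) with hW
  -- the family, as a family in `W`
  let f : ι → ↥W := fun i => ⟨trFun (S i), hBR6 i⟩
  have hf : LinearIndependent (K M) f := by
    apply LinearIndependent.of_comp W.subtype
    exact hBR4
  have hfin : FiniteDimensional (K M) ↥W := inferInstance
  have h1 := hf.fintype_card_le_finrank
  rw [Nat.card_eq_fintype_card]
  exact h1.trans hBR7M

end Cfsg.Agent.Lib.Helper75.ModRep
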